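import Cfsg.Agent.CZ.Two
import Cfsg.Agent.H8.FusGraph

/-! Involutions have at most two fixed points. -/

set_option autoImplicit false
set_option linter.unusedSectionVars false
set_option linter.unusedVariables false

namespace CZ

open Cfsg Subgroup FT H4 MulAction BS

variable {G Ω : Type*} [Group G] [Finite G] [MulAction G Ω]

namespace TZ
variable [FaithfulSMul G Ω] [Finite Ω] {u s s' t t' x y g : G} (h : TZ Ω u) {a b c : Ω}
  (hb : a ≠ b) (tt : t * t = 1) (t1 : t ≠ 1) (ht : t ∈ D G a b)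
include h hb tt t1 ht

theorem witt {c d e f : Ω} (h1 : c ≠ d) (h2 : e ≠ f) (hc : t • c = c) (hd : t • d = d)
    (he : t • e = e) (hf : t • f = f) : ∃ g : G, g * t = t * g ∧ g • c = e ∧ g • d = f := by
  obtain ⟨g, rfl, rfl⟩ := h.tr2 h1 h2
  exact ⟨g, h.comm_of tt t1 h1 ⟨hc, hd⟩ he hf, rfl, rfl⟩

theorem Kcomm (hx : ∀ c : Ω, t • c = c → x • c = c) (hg : g * t = t * g) (hc : t • c = c)
    (e : g • c = c) : g * x = x * g := by
  obtain ⟨d, hd, h1⟩ : ∃ d : Ω, d ≠ c ∧ t • d = d := by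
    by_cases e : a = c
    · exact ⟨b, e ▸ hb.symm, ht.2⟩
    · exact ⟨a, e, ht.1⟩
  refine commutatorElement_eq_one_iff_mul_comm.mp (h.semireg (a := c)
    (commutator_mem_commutator e (hx c hc)) hd ?_)
  rw [commutatorElement_def, mul_smul, inv_smul_eq_iff.mpr (hx d h1).symm, mul_smul, mul_smul,
    hx _ (comm_fix (Commute.inv_left hg) h1), smul_inv_smul]

theorem case1 (hs : Sw s a b) (e : Fx Ω s ↔ Fx Ω (s * t)) (hc : t • c = c) : c = a ∨ c = b := by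
  have st := h.Sw_comm hs hb tt t1 ht
  have cm := fun {x y : G} (hx : x ∈ D G a b) (hy : y ∈ D G a b) => cyc_comm (h.cycD hb) hx hy
  obtain ⟨x, hx, e1, e2⟩ := h.K1 hb hs (s' := s * t) ⟨by
    rw [mul_assoc, ← mul_assoc t, ← st, mul_assoc, tt, mul_one, hs.ss], by
    rw [mul_smul, ht.1, hs.ab]⟩ e
  have xx : x * x = t := by
    have : s * (s * t) = x⁻¹ * x⁻¹ := by rw [e2, ← mul_assoc, ← mul_assoc, e1]
    rw [hs.cancel, ← _root_.mul_inv_rev, eq_inv_iff_mul_eq_one] at this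
    exact (eq_inv_of_mul_eq_one_right this).trans (inv_eq_of_mul_eq_one_left tt)
  have nc : s * x ≠ x * s := fun e => t1 (by
    rw [e, mul_assoc, hs.ss, mul_one] at e1
    rw [← xx]; exact mul_eq_one_iff_eq_inv.mpr e1)
  have hα : ∀ y ∈ D G a b, y * y = t → s * y ≠ y * s := fun y hy yy e => nc (by
    by_cases e3 : x * y⁻¹ = 1
    · rwa [mul_inv_eq_one.mp e3]
    have := h.uniq hb (by
      rw [mul_assoc, ← mul_assoc y⁻¹, cm (inv_mem hy) hx, mul_assoc, ← mul_assoc, xx, ← yy]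
      group) e3 (mul_mem hx (inv_mem hy)) tt t1 ht
    rw [mul_inv_eq_iff_eq_mul.mp this, ← mul_assoc, st, mul_assoc, e, mul_assoc])
  have xt : x * t = t * x := cm hx ht
  have hβ : ∀ c : Ω, t • c = c → x • c = c := fun c hc => by
    by_contra e3
    obtain ⟨g, hg, g1, g2⟩ := h.witt hb tt t1 ht (Ne.symm e3) hb hc (comm_fix xt hc) ht.1 ht.2
    have h1 : s * (g * x * g⁻¹) ∈ D G a b := ⟨by
      rw [mul_smul, ← g1, conj_move rfl, g2, hs.ba, g1], by
      rw [mul_smul, ← g2, conj_move (b := c) (by rw [← mul_smul, xx, hc]), g1, hs.ab, g2]⟩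
    obtain ⟨z, hz, e4, e5⟩ := h.K2 hb hs h1
    have h2 : g * x * g⁻¹ * (g * x * g⁻¹) = t := by rw [conj_mul, xx, hg, mul_inv_cancel_right]
    generalize g * x * g⁻¹ = w at h1 h2 e5
    refine hα _ (mul_mem (inv_mem hz) h1) ?_ e5
    obtain ⟨y, rfl⟩ : ∃ y, w = s * (z * y) := ⟨z⁻¹ * (s * w), by simp [hs.cancel]⟩
    simp only [hs.cancel, inv_mul_cancel_left] at e5 h1 ⊢
    have hy : y ∈ D G a b := (mul_mem_cancel_left hz).mp h1
    rw [← h2, mul_assoc, mul_assoc, ← mul_assoc y, ← e5, mul_assoc s, ← mul_assoc z, ← mul_assoc,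
      ← mul_assoc, ← mul_assoc s, e4, mul_assoc z⁻¹, ← mul_assoc y, ← cm hz hy]
    group
  by_contra! hn
  obtain ⟨g, hg, g1, g2⟩ := h.witt hb tt t1 ht hn.1 hn.2 hc ht.1 hc ht.2
  have h1 := h.Kcomm hb tt t1 ht hβ hg hc g1
  have h2 := h.Kcomm hb tt t1 ht hβ (g := g⁻¹ * s) ((Commute.inv_left hg).mul_left st) ht.1 (by
    rw [mul_smul, hs.ab, inv_smul_eq_iff, g2])
  exact nc (by simpa using (Commute.mul_left h1 h2).eq)

omit hb tt t1 ht in
theorem not_odd {m : ℕ} (hm : Odd m) (hx : (u * x * (u * x)) ^ m = 1) (hx' : x • a = u • a)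
    (ho : ∀ k : ℕ, Odd (orderOf ((u * x * (u * x)) ^ k * (u * x) * u))) : False := by
  obtain ⟨k, rfl⟩ := hm
  have h1 : (u * x) • a = a := by rw [mul_smul, hx', ← mul_smul, h.uu, one_smul]
  obtain ⟨g, e⟩ := isConj_iff.mp (H8.isConj_of_odd_mul (by
    rw [← hx, ← sq (u * x), ← pow_mul, ← pow_succ, ← pow_add, ← pow_mul]; congr 1; ring) h.uu (ho k))
  refine (e ▸ Fx.conj (Ω := Ω) ⟨a, ?_⟩ g : Fx Ω u).elim h.fpf
  rw [← sq, ← pow_mul, ← pow_succ]
  exact pow_mem (show u * x ∈ stabilizer G a from h1) _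

omit hb ht in
theorem case2 {A : Subgroup G} (hA : IsCyclic A) (htr : ∀ x y : Ω, ∃ a ∈ A, a • x = y)
    (hu : u ∈ A) (ht : t ∈ D G a (u • a)) (e : Fx Ω (u * t)) (hc : t • c = c) :
    c = a ∨ c = u • a := by
  have hb := (h.fpf a).symm
  have hs : Sw u a (u • a) := ⟨h.uu, rfl⟩
  have ut := h.Sw_comm hs hb tt t1 ht
  have u1 : u ≠ 1 := fun e => h.fpf a (by rw [e, one_smul])
  have h1 : ∀ {v : G} {c : Ω}, v * v = 1 → v ≠ 1 → v • c = c → u * v = v * u → ∀ z ∈ A,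
      z • a = c → z * t * z⁻¹ = v := fun {v c} vv v1 hv uv z hz e => by
    subst e
    refine h.uniq (h.fpf (z • a)).symm (conj_inv tt) (conj_ne t1) ⟨conj_fix ht.1, ?_⟩ vv v1
      ⟨hv, comm_fix uv hv⟩
    rw [← mul_smul u, cyc_comm hA hu hz, mul_smul z u, conj_fix ht.2]
  have h2 : ∀ {c : Ω}, t • c = c → ∃ z ∈ A, z • a = c ∧ z * t = t * z := fun {c} hc => by
    obtain ⟨z, hz, e⟩ := htr a c
    exact ⟨z, hz, e, mul_inv_eq_iff_eq_mul.mp (h1 tt t1 hc ut z hz e)⟩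
  have hi : IsIsolated (⟨u, c1_iff.mpr ut⟩ : Cen1 t) := fun g hg => Subtype.ext (by
    have gt := c1_iff.mp g.2
    have uv : u * (g * u * (g : G)⁻¹) = g * u * (g : G)⁻¹ * u := congrArg Subtype.val hg
    show g * u * (g : G)⁻¹ = u
    have vv := conj_inv (g := (g : G)) h.uu
    have vt : Commute (g * u * (g : G)⁻¹) t :=
      (Commute.mul_left gt ut).mul_left (Commute.inv_left gt)
    have nv : ¬ Fx Ω (g * u * (g : G)⁻¹) := fun e => (fx_conj.mp e).elim h.fpf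
    obtain ⟨d, hd⟩ : Fx Ω (g * u * (g : G)⁻¹ * t) := by
      have := e.conj g
      rwa [← mul_assoc, mul_assoc _ t, ← (Commute.inv_left gt).eq, ← mul_assoc] at this
    generalize (g : G) * u * (g : G)⁻¹ = v at *
    obtain ⟨w, hw, e1⟩ := htr a d
    have e2 := h1 (by rw [mul_assoc, ← mul_assoc t, ← vt.eq, mul_assoc, tt, mul_one, vv])
      (fun e => nv ⟨a, by rw [eq_inv_of_mul_eq_one_left e, inv_smul_eq_iff, ht.1]⟩) hd
      (Commute.mul_right uv ut) w hw e1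
    have h3 : ∀ z ∈ A, z * t = t * z → Commute z v := fun z hz zt => by
      have : Commute z (v * t * t) := Commute.mul_right (e2 ▸ (Commute.mul_right
        (cyc_comm hA hz hw) zt).mul_right (Commute.inv_right (cyc_comm hA hz hw))) zt
      rwa [mul_assoc, tt, mul_one] at this
    obtain ⟨z, hz, e3, zt⟩ := h2 (comm_fix vt.eq ht.1)
    have e4 : z = u := cyc_inv hA hz hu (reg_eq hA htr (mul_mem hz hz) (one_mem _) (x := a) (by
      rw [mul_smul, e3, ← mul_smul, (h3 z hz zt).eq, mul_smul, e3, ← mul_smul, vv])) h.uu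
      (fun e => nv ⟨a, by rw [← e3, e, one_smul]⟩) u1
    subst e4
    have h4 := hs.mul_mem (s' := v) ⟨vv, e3.symm⟩
    by_cases e5 : z * v = 1
    · exact (eq_inv_of_mul_eq_one_right e5).trans hs.inv
    have e6 := h.uniq hb (by
      rw [mul_assoc, ← mul_assoc v, ← uv, mul_assoc, vv, mul_one, hs.ss]) e5 h4 tt t1 ht
    exact absurd (by rwa [← e6, hs.cancel] at e) nv)
  by_contra! hn
  obtain ⟨g, hg, g1, g2⟩ := h.witt hb tt t1 ht hb hn.1.symm ht.1 ht.2 ht.1 hc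
  have hz := L.zstar' (t := (⟨u, c1_iff.mpr ut⟩ : Cen1 t)) (orderOf_eq_prime (p := 2)
    (Subtype.ext ((sq u).trans h.uu)) fun e => u1 (congrArg Subtype.val e)) hi ⟨g, c1_iff.mpr hg⟩
  obtain ⟨k, hk, k1, k2⟩ := h.witt hb tt t1 ht hn.2.symm hb ht.2 hc ht.1 ht.2
  let N := pPrimeCore 2 (Cen1 t)
  have hN : N.Normal := inferInstance
  have ho : ∀ x ∈ N, Odd (orderOf (x : G)) := fun x hx => by
    rw [orderOf_coe]
    exact Nat.coprime_two_right.mp (coprime_card_iff_forall.mp (coprime_card_pPrimeCore 2 _) x hx)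
  obtain ⟨x, hx, e1⟩ : ∃ x ∈ N, (x : G) • a = u • a :=
    ⟨_, hN.conj_mem _ hz ⟨k, c1_iff.mpr hk⟩, by
      show (k * (g * u * g⁻¹ * u⁻¹) * k⁻¹) • a = _
      rw [← k2, ← k1]
      refine conj_move ?_
      rw [mul_smul, inv_smul_smul, ← g2, ← g1, conj_move rfl, g1]⟩
  have h5 := mul_mem (hN.conj_mem _ hx ⟨u, c1_iff.mpr ut⟩) hx
  have e2 : ((⟨u, c1_iff.mpr ut⟩ * x * (⟨u, c1_iff.mpr ut⟩ : Cen1 t)⁻¹ * x : Cen1 t) : G) =
    u * x * (u * x) := by simp [hs.inv, mul_assoc]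
  refine h.not_odd (ho _ h5) (e2 ▸ pow_orderOf_eq_one _) e1 fun k => ?_
  have := ho _ (mul_mem (pow_mem h5 k) (hN.conj_mem _ hx ⟨u, c1_iff.mpr ut⟩))
  rw [coe_mul, coe_pow, e2] at this
  simpa [hs.inv, mul_assoc] using this

theorem fix_two {A : Subgroup G} (hA : IsCyclic A) (htr : ∀ x y : Ω, ∃ a ∈ A, a • x = y)
    (hu : u ∈ A) (hc : t • c = c) : c = a ∨ c = b := by
  obtain ⟨g, g1, g2⟩ := h.tr2 hb (h.fpf a).symm
  have h1 : g * t * g⁻¹ ∈ D G a (u • a) := ⟨g1 ▸ conj_fix ht.1, g2 ▸ conj_fix ht.2⟩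
  have : g • c = a ∨ g • c = u • a := by
    by_cases e : Fx Ω (u * (g * t * g⁻¹))
    · exact h.case2 (conj_inv tt) (conj_ne t1) hA htr hu h1 e (conj_fix hc)
    · exact h.case1 (h.fpf a).symm (conj_inv tt) (conj_ne t1) h1 ⟨h.uu, rfl⟩
        (iff_of_false (fun e => e.elim h.fpf) e) (conj_fix hc)
  exact this.imp (fun e => smul_left_cancel g (e.trans g1.symm))
    fun e => smul_left_cancel g (e.trans g2.symm)

end TZ
end CZ
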