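import Cfsg.Agent.CZ.PGL

/-! Products of a cyclic group and a group with cyclic Sylow subgroups. -/

set_option autoImplicit false
set_option linter.unusedSectionVars false
set_option linter.unusedVariables false

namespace CZ

open Cfsg Subgroup FT H4 MulAction BS
open H5 (IsSylowOf)

universe u

variable {G : Type*} [Group G] [Finite G] {A B : Subgroup G}

/-- trivial solvable radical -/
def R1 (G : Type*) [Group G] : Prop :=
  ∀ N : Subgroup G, N.Normal → Group.IsSolvable N → N = ⊥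

structure Hy (A B : Subgroup G) : Prop where
  cyc : IsCyclic A
  zg : IsZGroup B
  fac : ∀ g : G, ∃ a ∈ A, ∃ b ∈ B, g = a * b

structure Con (B : Subgroup G) : Prop where
  pg : PG G
  idx : ∀ N : Subgroup G, N.Normal → N ≠ ⊥ → N.index ∣ 2
  syl : ∃ p Q, p.Prime ∧ Q ≠ ⊥ ∧ IsSylowOf p Q ⊤ ∧ B ≤ Nor Q ∧
    ∀ N : Subgroup G, N.Normal → N ≠ ⊥ → Q ≤ N

theorem zg_map {G' : Type*} [Group G'] (h : IsZGroup B) (f : G →* G') : IsZGroup (B.map f) :=
  IsZGroup.of_surjective (f.subgroupMap_surjective B)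

theorem Hy.map {G' : Type*} [Group G'] (h : Hy A B) (f : G →* G') (hf : Function.Surjective f) :
    Hy (A.map f) (B.map f) :=
  ⟨H9.isCyclic_map f h.cyc, zg_map h.zg f, fun g => by
    obtain ⟨g, rfl⟩ := hf g
    obtain ⟨a, ha, b, hb, rfl⟩ := h.fac g
    exact ⟨_, ⟨a, ha, rfl⟩, _, ⟨b, hb, rfl⟩, map_mul f a b⟩⟩

theorem Hy.sub (h : Hy A B) {H : Subgroup G} (hH : B ≤ H) :
    Hy (A.subgroupOf H) (B.subgroupOf H) := by
  have := h.cyc
  have := h.zg
  have hi : ∀ X : Subgroup G, Function.Injective (H.subtype.subgroupComap X) := fun X x y e =>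
    Subtype.ext (Subtype.ext (congrArg Subtype.val e :))
  refine ⟨isCyclic_of_injective _ (hi A), IsZGroup.of_injective (hi B), fun g => ?_⟩
  obtain ⟨a, ha, b, hb, e⟩ := h.fac g
  exact ⟨⟨a, (mul_mem_cancel_right (hH hb)).mp (e ▸ g.2)⟩, ha, ⟨b, hH hb⟩, hb, Subtype.ext e⟩

theorem R1.not_solv (h : R1 G) [Nontrivial G] : ¬ Group.IsSolvable G := fun e =>
  top_ne_bot (h ⊤ inferInstance inferInstance)

theorem R1.exists_inv (h : R1 G) [Nontrivial G] {X Y : Subgroup G} (hX : IsZGroup X)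
    (hf : ∀ g : G, ∃ y ∈ Y, ∃ x ∈ X, g = y * x) : ∃ t ∈ Y, t * t = 1 ∧ t ≠ 1 := by
  by_contra hn
  have h1 : ¬ 2 ∣ Nat.card Y := fun e => hn (by
    obtain ⟨t, ht, e⟩ := exists_orderOf_eq_prime_mem e
    exact ⟨t, ht, L.mul_self_of_orderOf e, IT.ne_one_of_orderOf Nat.prime_two e⟩)
  have : IsPretransitive Y (G ⧸ X) := ⟨fun x y => by
    obtain ⟨x, rfl⟩ := QuotientGroup.mk_surjective x
    obtain ⟨y, rfl⟩ := QuotientGroup.mk_surjective y
    obtain ⟨a, ha, b, hb, rfl⟩ := hf x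
    obtain ⟨c, hc, d, hd, rfl⟩ := hf y
    refine ⟨⟨c * a⁻¹, mul_mem hc (inv_mem ha)⟩, QuotientGroup.eq.mpr ?_⟩
    simpa [mul_assoc] using mul_mem (inv_mem hb) hd⟩
  have h2 : ¬ 2 ∣ X.index := fun e => h1 (e.trans (by
    rw [index, ← index_stabilizer_of_transitive Y ((1 : G) : G ⧸ X)]; exact index_dvd_card _))
  obtain ⟨P, hP⟩ := H5.exists_isSylowOf 2 X
  obtain ⟨S, rfl⟩ := (IT.sylow_of_not_dvd Nat.prime_two hP h2).exists_sylow_top
  obtain ⟨T, N, hN, e⟩ := L.hasNormalPComplement_of_cyclic (by_contra fun e => h.not_solv (by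
    have := GW.odd_solv (D := (⊤ : Subgroup G)) (by rwa [card_top, ← Nat.not_even_iff_odd,
      even_iff_two_dvd])
    exact Group.isSolvable_of_surjective (f := (⊤ : Subgroup G).subtype) fun g => ⟨⟨g, trivial⟩, rfl⟩)) S
    (isCyclic_of_surjective _ (subgroupOfEquivOfLe hP.le).surjective
      (hH := (hP.isPGroup.comap_subtype (K := X)).isCyclic_of_isZGroup))
  rw [h N hN (GW.odd_solv (by
    rw [← Nat.not_even_iff_odd, even_iff_two_dvd, ← e.index_eq_card]; exact T.not_dvd_index)),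
    isComplement'_bot_left] at e
  exact top_ne_bot (h ⊤ inferInstance (H5.isSolvable_of_isPGroup (e ▸ T.isPGroup')))

theorem Hy.fac' (h : Hy A B) (g : G) : ∃ b ∈ B, ∃ a ∈ A, g = b * a := by
  obtain ⟨a, ha, b, hb, e⟩ := h.fac g⁻¹
  exact ⟨_, inv_mem hb, _, inv_mem ha, by rw [← _root_.mul_inv_rev, ← e, inv_inv]⟩

theorem Hy.inf_le (h : Hy A B) {M : Subgroup G} (hM : B ≤ M) : A ⊓ M ≤ M.normalCore :=
  fun x hx g => by
    obtain ⟨b, hb, a, ha, rfl⟩ := h.fac' g
    rw [mul_assoc b, cyc_comm h.cyc ha hx.1, _root_.mul_inv_rev, mul_assoc b, mul_assoc x,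
      mul_inv_cancel_left]
    exact mul_mem (hM hb) (mul_mem hx.2 (inv_mem (hM hb)))

theorem Hy.core (h : Hy A B) (hR : R1 G) : B.normalCore = ⊥ := by
  have := h.zg
  exact hR _ inferInstance (isSolvable_of_le B.normalCore_le inferInstance)

theorem Hy.con (h : Hy A B) (hR : R1 G) [Nontrivial G] (hB : IsCoatom B) : Con B := by
  have := h.zg
  have := h.cyc
  have : FaithfulSMul G (G ⧸ B) := ⟨fun {x y} e => (injective_iff_map_eq_one
    (toPermHom G (G ⧸ B))).mpr (fun z hz => mem_bot.mp (by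
      rwa [← h.core hR, normalCore_eq_ker])) (Equiv.ext e)⟩
  have e0 := stabilizer_quotient B
  have htr : ∀ x y : G ⧸ B, ∃ a ∈ A, a • x = y := fun x y => by
    obtain ⟨x, rfl⟩ := QuotientGroup.mk_surjective x
    obtain ⟨y, rfl⟩ := QuotientGroup.mk_surjective y
    obtain ⟨a, ha, b, hb, rfl⟩ := h.fac x
    obtain ⟨c, hc, d, hd, rfl⟩ := h.fac y
    refine ⟨c * a⁻¹, mul_mem hc (inv_mem ha), QuotientGroup.eq.mpr ?_⟩
    simpa [mul_assoc] using mul_mem (inv_mem hb) hd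
  obtain ⟨u, hu, uu, u1⟩ := hR.exists_inv h.zg h.fac
  obtain ⟨t, ht, tt, t1⟩ := hR.exists_inv (X := A) inferInstance h.fac'
  have h1 : TZ (G ⧸ B) u := ⟨schur2 h.cyc htr (e0.symm ▸ hB) hu uu u1, fun a => by
    obtain ⟨g, -, rfl⟩ := htr ((1 : G) : G ⧸ B) a
    rw [stabilizer_smul_eq_stabilizer_map_conj, e0]
    exact zg_map h.zg _, uu, fun a e => u1 (reg_eq h.cyc htr hu (one_mem _) (by rwa [one_smul])),
    t, tt, t1, _, (e0.symm ▸ ht : t ∈ stabilizer G ((1 : G) : G ⧸ B))⟩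
  have h2 : TF (G ⧸ B) u := ⟨h1, fun hb tt t1 ht => h1.fix_two hb tt t1 ht h.cyc htr hu⟩
  obtain ⟨q, p, e, q1, hp, ho⟩ := h2.exQ ((1 : G) : G ⧸ B)
  exact ⟨h2.pg ((1 : G) : G ⧸ B) hR.not_solv,
    fun N hN h0 => h2.idx hN h0 (fun e => h0 (hR N hN e)) ((1 : G) : G ⧸ B),
    p, _, hp, fun e' => q1 (zpowers_eq_bot.mp (e.trans e')), h2.sylow hp e q1 ho,
    e0.ge.trans (le_normalizer_commutator le_normalizer le_normalizer),
    fun N hN h0 => h2.Q_le hN h0 (fun e => h0 (hR N hN e)) _⟩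

theorem two_mul_le {Y : Subgroup G} (hY : IsZGroup Y) {G₁ G₂ : Type*} [Group G₁] [Group G₂]
    [Finite G₁] [Finite G₂] (f₁ : G →* G₁) (f₂ : G →* G₂) (h : f₁.ker ⊓ f₂.ker = ⊥)
    (h1 : ∃ t ∈ Y.map f₁, t * t = 1 ∧ t ≠ 1) (h2 : ∃ t ∈ Y.map f₂, t * t = 1 ∧ t ≠ 1) :
    2 * Nat.card Y ≤ Nat.card (Y.map f₁) * Nat.card (Y.map f₂) := by
  let f := (f₁.subgroupMap Y).prod (f₂.subgroupMap Y)
  have hf : Function.Injective f := (injective_iff_map_eq_one _).mpr fun x hx => Subtype.ext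
    (mem_bot.mp (h ▸ ⟨congrArg (fun z : Y.map f₁ × Y.map f₂ => (z.1 : G₁)) hx,
      congrArg (fun z : Y.map f₁ × Y.map f₂ => (z.2 : G₂)) hx⟩))
  rw [← Nat.card_prod, ← f.range.index_mul_card, ← Nat.card_congr (MonoidHom.ofInjective hf).toEquiv]
  refine Nat.mul_le_mul_right _ (by_contra fun e => ?_)
  have h3 : f.range = ⊤ := index_eq_one.mp (by have := f.range.index_ne_zero_of_finite; omega)
  have := IsZGroup.of_surjective (MonoidHom.range_eq_top.mp h3)
  obtain ⟨s, hs, ss, s1⟩ := h1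
  obtain ⟨t, ht, tt, t1⟩ := h2
  exact s1 (congrArg (fun z => (z.1 : G₁)) (eq_of_isCyclic_sylow
    (a := ((⟨s, hs⟩, 1) : Y.map f₁ × Y.map f₂)) (b := (1, ⟨t, ht⟩))
    (Prod.ext (Subtype.ext ss) (one_mul 1)) (Prod.ext (one_mul 1) (Subtype.ext tt))
    (Prod.ext (by simp) (by simp)) (C := ⊤) (fun R => inferInstance) trivial trivial
    (fun e => s1 (congrArg (fun z => (z.1 : G₁)) e)) fun e => t1 (congrArg (fun z => (z.2 : G₂)) e)))

theorem Hy.card_le (h : Hy A B) : Nat.card G ≤ Nat.card A * Nat.card B := by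
  rw [← Nat.card_prod]
  refine Nat.card_le_card_of_surjective (fun x : A × B => (x.1 : G) * x.2) fun g => ?_
  obtain ⟨a, ha, b, hb, e⟩ := h.fac g
  exact ⟨(⟨a, ha⟩, ⟨b, hb⟩), e.symm⟩

theorem Hy.le_card (h : Hy A B) (hR : R1 G) : Nat.card A * Nat.card B ≤ Nat.card G := by
  have := H6.card_mul_card_le A B
  rw [eq_bot_iff.mpr ((h.inf_le le_rfl).trans (h.core hR).le), card_bot, one_mul] at this
  exact this.trans (card_le_card_group _)

theorem R1.quot (hR : R1 G) {N K : Subgroup G} [hN : N.Normal] (hK : K.Normal) (h0 : N ⊓ K = ⊥)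
    (hm : ∀ X : Subgroup G, X.Normal → X ⊓ K = ⊥ → N ≤ X → X ≤ N) : R1 (G ⧸ N) := fun S hS hs => by
  have h1 : N ≤ S.comap (QuotientGroup.mk' N) := fun x hx => by
    rw [mem_comap, QuotientGroup.mk'_apply, (QuotientGroup.eq_one_iff x).mpr hx]; exact one_mem _
  have h2 := hm _ (hS.comap _) (hR _ inferInstance (isSolvable_of_map (QuotientGroup.mk' N)
    (isSolvable_of_le ((map_mono inf_le_left).trans (map_comap_le _ _)) hs) (by
      rw [QuotientGroup.ker_mk', inf_assoc, inf_comm K, h0, inf_bot_eq]; infer_instance))) h1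
  rw [← map_comap_eq_self_of_surjective (QuotientGroup.mk'_surjective N) S, Subgroup.map_eq_bot_iff,
    QuotientGroup.ker_mk']
  exact h2

theorem nontrivial_quot {N K : Subgroup G} [hN : N.Normal] (h0 : N ⊓ K = ⊥) (hK : K ≠ ⊥) :
    K.map (QuotientGroup.mk' N) ≠ ⊥ := fun e => hK (by
  rw [Subgroup.map_eq_bot_iff, QuotientGroup.ker_mk'] at e
  rwa [inf_eq_right.mpr e] at h0)

theorem main (n : ℕ) : ∀ (G : Type u) [Group G] [Finite G] (A B : Subgroup G), Nat.card G = n →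
    Hy A B → R1 G → Nontrivial G → Con B := by
  induction n using Nat.strong_induction_on with | _ n ih => ?_
  rintro G _ _ A B rfl h hR _
  have := h.zg
  have := h.cyc
  have h1 : ∀ X Y : Subgroup G, X.Normal → Y.Normal → X ≠ ⊥ → Y ≠ ⊥ → X ⊓ Y ≠ ⊥ := by
    intro X Y hX hY X0 Y0 e
    obtain ⟨N, hXN, ⟨hN, e1⟩, m1⟩ := Finite.exists_le_maximal
      (p := fun N : Subgroup G => N.Normal ∧ N ⊓ Y = ⊥) ⟨hX, e⟩
    obtain ⟨K, hYK, ⟨hK, e2⟩, m2⟩ := Finite.exists_le_maximal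
      (p := fun K : Subgroup G => K.Normal ∧ K ⊓ N = ⊥) ⟨hY, (inf_comm _ _).trans e1⟩
    have e3 := (inf_comm _ _).trans e2
    have N0 : N ≠ ⊥ := fun e => X0 (eq_bot_iff.mpr (e ▸ hXN))
    have K0 : K ≠ ⊥ := fun e => Y0 (eq_bot_iff.mpr (e ▸ hYK))
    have r1 := hR.quot hK e3 fun Z hZ e hle =>
      m1 ⟨hZ, eq_bot_iff.mpr ((inf_le_inf_left _ hYK).trans e.le)⟩ hle
    have r2 := hR.quot hN e2 fun Z hZ e hle => m2 ⟨hZ, e⟩ hle
    have n1 := (nontrivial_iff_ne_bot _).mpr (nontrivial_quot e3 K0)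
    have n2 := (nontrivial_iff_ne_bot _).mpr (nontrivial_quot e2 N0)
    have : Nontrivial (G ⧸ N) := (subtype_injective (K.map (QuotientGroup.mk' N))).nontrivial
    have : Nontrivial (G ⧸ K) := (subtype_injective (N.map (QuotientGroup.mk' K))).nontrivial
    have k1 := h.map _ (QuotientGroup.mk'_surjective N)
    have k2 := h.map _ (QuotientGroup.mk'_surjective K)
    have e4 : (QuotientGroup.mk' N).ker ⊓ (QuotientGroup.mk' K).ker = ⊥ := by simpa using e3
    have a1 := two_mul_le (Y := A) inferInstance _ _ e4 (r1.exists_inv k1.zg k1.fac)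
      (r2.exists_inv k2.zg k2.fac)
    have a2 := two_mul_le h.zg _ _ e4 (r1.exists_inv (zg_map inferInstance _) k1.fac')
      (r2.exists_inv (zg_map inferInstance _) k2.fac')
    have a3 := Nat.le_of_dvd two_pos ((ih _ (L.card_quotient_lt K0) _ _ _ rfl k2 r2 this).idx _
      (hN.map _ (QuotientGroup.mk'_surjective K)) (nontrivial_quot e2 N0))
    have a4 := (N.map (QuotientGroup.mk' K)).index_mul_card
    have a5 := Nat.le_of_dvd Nat.card_pos (card_map_dvd N (QuotientGroup.mk' K))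
    have a6 := N.card_eq_card_quotient_mul_card_subgroup
    have a7 := Nat.mul_le_mul a1 a2
    have a8 := Nat.mul_le_mul (k1.le_card r1) ((k2.le_card r2).trans (a4 ▸ Nat.mul_le_mul a3 a5))
    have a9 := h.card_le
    have := Nat.card_pos (α := G)
    nlinarith
  obtain ⟨L, -, ⟨hL, L0⟩, mL⟩ := Finite.exists_le_minimal
    (p := fun N : Subgroup G => N.Normal ∧ N ≠ ⊥) ⟨inferInstance, top_ne_bot⟩
  have h2 : ∀ X : Subgroup G, X.Normal → X ≠ ⊥ → L ≤ X := fun X hX X0 =>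
    (mL ⟨inferInstance, h1 L X hL hX L0 X0⟩ inf_le_left).trans inf_le_right
  obtain ⟨X, hX, h3, h4⟩ : ∃ X, B ≤ X ∧ L ⊔ X = ⊤ ∧ X ≠ ⊤ := by
    by_cases e : L ⊔ B = ⊤
    · exact ⟨B, le_rfl, e, fun e => top_ne_bot (hR ⊤ inferInstance (e ▸ inferInstance))⟩
    have hl : L ≤ L ⊔ B := le_sup_left
    have L1 : L.subgroupOf (L ⊔ B) ≠ ⊥ := fun e => L0 (by
      rwa [subgroupOf_eq_bot, disjoint_iff, inf_eq_left.mpr hl] at e)
    have hR1 : R1 ↥(L ⊔ B) := fun S hS hs => by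
      have s1 : L ≤ Nor (S.map (L ⊔ B).subtype) := hl.trans (by
        have := le_normalizer_map (H := S) (L ⊔ B).subtype
        rwa [normalizer_eq_top, ← MonoidHom.range_eq_map, range_subtype] at this)
      have s2 : S.map (L ⊔ B).subtype ⊓ L = ⊥ := eq_bot_iff.mpr ((le_radIn inf_le_right
        (le_normalizer_inf s1 le_normalizer) (isSolvable_of_le inf_le_left (isSolvable_map hs _))).trans
        (hR _ (normal_of_top_le_normalizer ((normalizer_eq_top L).ge.trans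
          (radClass_solvable.normalizer_le L))) (radClass_solvable.prop L)).le)
      have s3 : Cen L = ⊥ := by_contra fun e => L0 (hR L hL (H5.isSolvable_of_isMulCommutative
        (le_centralizer_iff_isMulCommutative.mp (h2 _ inferInstance e))))
      refine (map_eq_bot_iff_of_injective _ (subtype_injective _)).mp (eq_bot_iff.mpr (s3 ▸ ?_))
      refine commutator_eq_bot_iff_le_centralizer.mp (eq_bot_iff.mpr (s2 ▸ le_inf ?_
        (commutator_le_right _ _)))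
      exact H6.commutator_le_of_le_normalizer s1
    obtain ⟨p, Q, hp, Q0, q1, q2, q3⟩ := (ih _ (_root_.L.card_lt_of_ne_top e) _ _ _ rfl
      (h.sub le_sup_right) hR1 ((nontrivial_iff_ne_bot _).mpr
        fun e => L0 (eq_bot_iff.mpr (e ▸ hl)))).syl
    have : Fact p.Prime := ⟨hp⟩
    have q4 := (q1.of_le (q3 _ inferInstance L1) le_top).map (L ⊔ B).subtype
    rw [map_subgroupOf_eq_of_le hl] at q4
    refine ⟨Nor (Q.map (L ⊔ B).subtype), ?_, by
      simpa only [top_inf_eq] using q4.sup_normalizer le_top (normalizer_eq_top L).ge, fun e => Q0 ?_⟩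
    · exact (map_subgroupOf_eq_of_le (le_sup_right : B ≤ L ⊔ B)).ge.trans
        ((map_mono q2).trans (le_normalizer_map _))
    · exact (map_eq_bot_iff_of_injective _ (subtype_injective _)).mp (hR _
        (normalizer_eq_top_iff.mp e) (H5.isSolvable_of_isPGroup q4.isPGroup))
  obtain ⟨M, hM, h5⟩ := (eq_top_or_exists_le_coatom X).resolve_left h4
  have h6 : M.normalCore = ⊥ := by_contra fun e => hM.1 (top_le_iff.mp (h3 ▸ sup_le
    ((h2 _ inferInstance e).trans M.normalCore_le) h5))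
  refine h.con hR (le_antisymm (fun m hm => ?_) (hX.trans h5) ▸ hM)
  obtain ⟨a, ha, b, hb, rfl⟩ := h.fac m
  rwa [mem_bot.mp (h6.le (h.inf_le (hX.trans h5)
    ⟨ha, (mul_mem_cancel_right (h5 (hX hb))).mp hm⟩)), one_mul]

end CZ
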