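import Cfsg.Agent.CZ.Sharp

/-! Identification with `PGL(2, p)`. -/

set_option autoImplicit false
set_option linter.unusedSectionVars false
set_option linter.unusedVariables false

namespace CZ

open Cfsg Subgroup FT H4 MulAction BS OnePoint Matrix
open H5 (IsSylowOf)

variable {G Ω : Type*} [Group G] [Finite G] [MulAction G Ω]

section
variable {F : Type} [Field F] [DecidableEq F]

theorem mem_center_iff3 {m : GL (Fin 2) F} : m ∈ center (GL (Fin 2) F) ↔
    m • (∞ : OnePoint F) = ∞ ∧ m • ((0 : F) : OnePoint F) = (0 : F) ∧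
      m • ((1 : F) : OnePoint F) = (1 : F) := by
  have hd := m.det_ne_zero
  rw [GeneralLinearGroup.mem_center_iff_val_mem_range_scalar, smul_infty_eq_self_iff,
    smul_some_eq_ite, smul_some_eq_ite]
  rw [det_fin_two] at hd
  refine ⟨fun ⟨r, e⟩ => ?_, fun ⟨h1, h2, h3⟩ => ?_⟩
  · have r0 : r ≠ 0 := fun e' => hd (by simp [← e, e'])
    simp [← e, r0]
  · have d0 : m 1 1 ≠ 0 := fun e => hd (by simp [h1, e])
    simp only [h1, mul_zero, zero_add, zero_mul, mul_one, if_neg d0, coe_eq_coe, div_eq_zero_iff,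
      d0, or_false, if_false] at h2 h3
    rw [h2, add_zero, div_eq_one_iff_eq d0] at h3
    exact ⟨m 1 1, by ext i j; fin_cases i <;> fin_cases j <;> simp [h1, h2, h3]⟩

theorem smul_of_center {m : GL (Fin 2) F} (h : m ∈ center (GL (Fin 2) F)) (z : OnePoint F) :
    m • z = z := by
  have hd := m.det_ne_zero
  obtain ⟨r, e⟩ := GeneralLinearGroup.mem_center_iff_val_mem_range_scalar.mp h
  have r0 : r ≠ 0 := fun e' => hd (by simp [← e, e'])
  cases z with
  | infty => exact (mem_center_iff3.mp h).1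
  | coe x => simp [smul_some_eq_ite, ← e, r0]

theorem pgl_of_act [FaithfulSMul G Ω] (ε : OnePoint F ≃ Ω)
    (h1 : ∀ g : G, ∃ m : GL (Fin 2) F, ∀ z, g • ε z = ε (m • z))
    (h3 : ∀ a b c : Ω, a ≠ b → c ≠ a → c ≠ b →
      ∃ g : G, g • ε ∞ = a ∧ g • ε (0 : F) = b ∧ g • ε (1 : F) = c) :
    Nonempty (G ≃* GL (Fin 2) F ⧸ center (GL (Fin 2) F)) := by
  have h2 : ∀ m : GL (Fin 2) F, ∃ g : G, ∀ z, g • ε z = ε (m • z) := fun m => by
    obtain ⟨g, e1, e2, e3⟩ := h3 (ε (m • ∞)) (ε (m • ((0 : F) : OnePoint F)))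
      (ε (m • ((1 : F) : OnePoint F))) (by simp) (by simp) (by simp)
    obtain ⟨k, hk⟩ := h1 g
    rw [hk, ε.apply_eq_iff_eq] at e1 e2 e3
    have := smul_of_center (m := k⁻¹ * m) (mem_center_iff3.mpr (by
      simp only [mul_smul, ← e1, ← e2, ← e3, inv_smul_smul, and_self]))
    exact ⟨g, fun z => by rw [hk, ← congrArg (k • ·) (this z), mul_smul, smul_inv_smul]⟩
  choose φ hφ using h2
  have ext : ∀ {g g' : G}, (∀ z, g • ε z = g' • ε z) → g = g' := fun h =>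
    eq_of_smul_eq_smul fun y : Ω => by obtain ⟨z, rfl⟩ := ε.surjective y; exact h z
  let f : GL (Fin 2) F →* G := MonoidHom.mk' φ fun m k => ext fun z => by
    simp only [mul_smul, hφ]
  have hk : center (GL (Fin 2) F) = f.ker := Subgroup.ext fun m => ⟨fun h => ext fun z => by
    rw [one_smul]; exact (hφ m z).trans (congrArg ε (smul_of_center h z)), fun h => by
    have : ∀ z, m • z = z := fun z => ε.injective (by rw [← hφ, show φ m = 1 from h, one_smul])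
    exact mem_center_iff3.mpr ⟨this _, this _, this _⟩⟩
  exact ⟨((QuotientGroup.quotientMulEquivOfEq hk).trans
    (QuotientGroup.quotientKerEquivOfSurjective f fun g => (h1 g).imp fun m hm =>
      ext fun z => (hφ m z).trans (hm z).symm)).symm⟩

theorem exists_gl (a b c d : F) (h : a * d - b * c ≠ 0) :
    ∃ m : GL (Fin 2) F, m 0 0 = a ∧ m 0 1 = b ∧ m 1 0 = c ∧ m 1 1 = d :=
  ⟨GeneralLinearGroup.mkOfDetNeZero !![a, b; c, d] (by rwa [det_fin_two_of]), rfl, rfl, rfl, rfl⟩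

end

/-- `G` is isomorphic to `PGL(2, p)` for a prime `p > 3` -/
def PG (G : Type*) [Group G] : Prop :=
  ∃ (F : Type) (_ : Field F) (_ : Fintype F) (p : ℕ), p.Prime ∧ 3 < p ∧ Fintype.card F = p ∧
    Nonempty (G ≃* (GL (Fin 2) F ⧸ Subgroup.center (GL (Fin 2) F)))

theorem TF.pg [FaithfulSMul G Ω] [Finite Ω] {u : G} (h : TF Ω u) (a : Ω)
    (hG : ¬ Group.IsSolvable G) : PG G := by
  classical
  obtain ⟨q, p, e, q1, hp, ho⟩ := h.exQ a
  have : Fact p.Prime := ⟨hp⟩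
  obtain ⟨b, hb⟩ : ∃ b, b ≠ a := ⟨_, h.fpf a⟩
  have hq : q ∈ Qs G a := e ▸ mem_zpowers q
  obtain ⟨τ, hτ⟩ : ∃ τ : ZMod p → G, ∀ n : ℤ, τ n = q ^ n := ⟨fun k => q ^ (k.val : ℤ), fun n => by
    simp only [ZMod.val_intCast, ← ho, zpow_mod_orderOf]⟩
  have τQ : ∀ k, τ k ∈ Qs G a := fun k => by
    obtain ⟨n, rfl⟩ := ZMod.intCast_surjective k
    exact hτ n ▸ zpow_mem hq n
  have τ0 : τ 0 = 1 := by simpa using hτ 0
  have τa : ∀ j k, τ (j + k) = τ j * τ k := fun j k => by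
    obtain ⟨n, rfl⟩ := ZMod.intCast_surjective k
    obtain ⟨m, rfl⟩ := ZMod.intCast_surjective j
    rw [← Int.cast_add, hτ, hτ, hτ, _root_.zpow_add]
  have τs : ∀ z ∈ Qs G a, ∃ k, τ k = z := fun z hz => by
    obtain ⟨n, rfl⟩ : z ∈ zpowers q := e ▸ hz
    exact ⟨n, hτ n⟩
  have τi : ∀ j k, τ j • b = τ k • b → j = k := fun j k e => by
    have := inv_mul_eq_one.mp (h.semireg (mul_mem (inv_mem (τQ j)) (τQ k)) hb (by
      rw [mul_smul, ← e, inv_smul_smul]))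
    obtain ⟨n, rfl⟩ := ZMod.intCast_surjective k
    obtain ⟨m, rfl⟩ := ZMod.intCast_surjective j
    rwa [hτ, hτ, zpow_eq_zpow_iff_modEq, ho, ← ZMod.intCast_eq_intCast_iff] at this
  obtain ⟨ε, ε1, ε2⟩ : ∃ ε : OnePoint (ZMod p) ≃ Ω, ε ∞ = a ∧ ∀ k : ZMod p, ε k = τ k • b := by
    refine ⟨Equiv.ofBijective (fun z => z.elim a fun k => τ k • b) ⟨fun z w e => ?_, fun c => ?_⟩,
      rfl, fun _ => rfl⟩
    · cases z <;> cases w
      · rfl
      · exact absurd e.symm (smul_ne (Q_fix (τQ _)) hb)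
      · exact absurd e (smul_ne (Q_fix (τQ _)) hb)
      · exact congrArg _ (τi _ _ e)
    · by_cases hc : c = a
      · exact ⟨∞, hc.symm⟩
      obtain ⟨z, hz, rfl⟩ := h.Q_tr hb hc
      obtain ⟨k, rfl⟩ := τs z hz
      exact ⟨k, rfl⟩
  have ε0 : ε (0 : ZMod p) = b := by rw [ε2, τ0, one_smul]
  have hD : ∀ y ∈ D G a b, ∃ l : ZMod p, l ≠ 0 ∧ ∀ k : ZMod p, y • ε k = ε (l * k :) := by
    intro y hy
    obtain ⟨l, hl⟩ := τs _ (Q_conj hq hy.1)
    refine ⟨l, fun e => q1 (conj_eq_one_iff.mp (by rw [← hl, e, τ0])), fun k => ?_⟩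
    obtain ⟨n, rfl⟩ := ZMod.intCast_surjective k
    obtain ⟨m, rfl⟩ := ZMod.intCast_surjective l
    rw [ε2, ε2, ← Int.cast_mul, hτ, hτ, _root_.zpow_mul, ← hτ m, hl, conj_zpow, ← conj_move (g := y) rfl,
      hy.2]
  have n1 : ε (1 : ZMod p) ≠ a := by simp [← ε1]
  have n2 : ε (1 : ZMod p) ≠ b := by simp [← ε0]
  let M : G → Prop := fun g => ∃ m : GL (Fin 2) (ZMod p), ∀ z, g • ε z = ε (m • z)
  have Mm : ∀ {g k}, M g → M k → M (g * k) := fun ⟨m, hm⟩ ⟨n, hn⟩ =>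
    ⟨m * n, fun z => by rw [mul_smul, hn, hm, mul_smul]⟩
  have M1 : ∀ z ∈ Qs G a, M z := fun z hz => by
    obtain ⟨k, rfl⟩ := τs z hz
    obtain ⟨m, e1, e2, e3, e4⟩ := exists_gl 1 k 0 1 (by simp)
    refine ⟨m, fun z => ?_⟩
    cases z with
    | infty => rw [smul_infty_eq_self_iff.mpr e3, ε1, Q_fix hz]
    | coe x => simp [smul_some_eq_ite, e1, e2, e3, e4, ε2, ← mul_smul, ← τa, add_comm]
  have M2 : ∀ g : G, g • a = a → M g := fun g hg => by
    obtain ⟨z, hz, hy⟩ := h.exQD hb hg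
    rw [← mul_inv_cancel_left z g]
    refine Mm (M1 z hz) ?_
    obtain ⟨l, l0, hl⟩ := hD _ hy
    obtain ⟨m, e1, e2, e3, e4⟩ := exists_gl l 0 0 1 (by simpa)
    refine ⟨m, fun z => ?_⟩
    cases z with
    | infty => rw [smul_infty_eq_self_iff.mpr e3, ε1, hy.1]
    | coe x => simp [smul_some_eq_ite, e1, e2, e3, e4, hl]
  obtain ⟨s, hs, s1⟩ := h.exSw' hb.symm n1 n2
  have M3 : M s := by
    obtain ⟨m, e1, e2, e3, e4⟩ := exists_gl (0 : ZMod p) 1 1 0 (by simp)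
    refine ⟨m, fun z => ?_⟩
    cases z with
    | infty => simp [smul_infty_eq_ite, e1, e3, ε1, ε0, hs.ab]
    | coe x =>
      by_cases hx : x = 0
      · simp [smul_some_eq_ite, e1, e2, e3, e4, hx, ε1, ε0, hs.ba]
      obtain ⟨y, hy, e5⟩ := h.D_tr hb.symm n1 n2 (d := ε x) (by simp [← ε1]) (by simpa [← ε0])
      obtain ⟨l, l0, hl⟩ := hD y hy
      obtain rfl : l = x := by simpa [hl] using e5
      rw [← e5, ← s1, ← mul_smul, ← mul_smul, h.D_inv hb.symm hs s1 hy, inv_smul_eq_iff]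
      simp [smul_some_eq_ite, e1, e2, e3, e4, hx, hl]
  refine ⟨ZMod p, inferInstance, inferInstance, p, hp, ?_, ZMod.card p,
    pgl_of_act ε (fun g => ?_) fun x y z h1 h2 h3 => ?_⟩
  · by_contra! h3
    have h2 : p ≠ 2 := fun e => q1 (h.Q_odd hq (by rw [← sq, ← e, ← ho, pow_orderOf_eq_one]))
    obtain rfl : p = 3 := by have := hp.two_le; omega
    refine hG (H8.isSolvable_of_card_dvd_prime_pow_mul Nat.prime_two Nat.prime_three 3 1 _ G rfl ?_)
    have := card_dvd_of_injective (toPermHom G Ω) toPerm_injective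
    rwa [Nat.card_perm, ← Nat.card_congr ε, show Nat.card (OnePoint (ZMod 3)) = 4 from
      Finite.card_option.trans (by simp)] at this
  · by_cases hg : g • a = a
    · exact M2 g hg
    obtain ⟨z, hz, e1⟩ := h.Q_tr hb hg
    rw [← mul_inv_cancel_left (z * s) g]
    exact Mm (Mm (M1 z hz) M3) (M2 _ (by rw [mul_smul, ← e1, ← hs.ab, ← mul_smul z, inv_smul_smul]))
  · obtain ⟨g, rfl, rfl⟩ := h.tr2 hb.symm h1
    obtain ⟨k, hk, e1⟩ := h.D_tr hb.symm n1 n2 (d := g⁻¹ • z)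
      (fun e => h2 (inv_smul_eq_iff.mp e)) fun e => h3 (inv_smul_eq_iff.mp e)
    exact ⟨g * k, by rw [mul_smul, ε1, hk.1], by rw [mul_smul, ε0, hk.2], by
      rw [mul_smul, e1, smul_inv_smul]⟩

end CZ
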