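import Cfsg.Agent.IT.Basic

/-! Schur's theorem: a primitive group with a regular cyclic subgroup of even order is
doubly transitive. -/

set_option autoImplicit false
set_option linter.unusedSectionVars false
set_option linter.unusedVariables false

namespace CZ

open Cfsg Subgroup FT H4 MulAction

variable {G Ω : Type*} [Group G] [Finite G] [MulAction G Ω]

/-- an involution of a cyclic group is unique -/
theorem cyc_inv {C : Subgroup G} (hC : IsCyclic C) {x y : G} (hx : x ∈ C) (hy : y ∈ C)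
    (h1 : x * x = 1) (h2 : y * y = 1) (h3 : x ≠ 1) (h4 : y ≠ 1) : x = y := by
  classical
  have := hC
  have h5 := H7.mem_zpowers_of_isCyclic (p := 2) hy h4 (by rwa [sq]) hx (by rwa [sq])
  rw [mem_zpowers_iff_mem_range_orderOf, orderOf_eq_prime (p := 2) (by rwa [sq]) h4] at h5
  simpa [Finset.range_add_one, h3, eq_comm] using h5

theorem cyc_comm {C : Subgroup G} (hC : IsCyclic C) {x y : G} (hx : x ∈ C) (hy : y ∈ C) :
    x * y = y * x :=
  congrArg Subtype.val ((comm_of_cyclic hC).is_comm.comm (⟨x, hx⟩ : C) ⟨y, hy⟩)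

theorem blk {H : Subgroup G} (hH : IsCoatom H) {W : Set Ω} (h1 : ∀ h ∈ H, ∀ w ∈ W, h • w ∈ W)
    {c : G} (hc : c ∉ H) (h2 : ∀ w ∈ W, c • w ∈ W) (g : G) : ∀ w ∈ W, g • w ∈ W := by
  let M : Submonoid G := ⟨⟨{g | ∀ w ∈ W, g • w ∈ W}, fun {a b} ha hb w hw => by
    rw [mul_smul]; exact ha _ (hb w hw)⟩, fun w hw => by rwa [one_smul]⟩
  let K : Subgroup G := ⟨M, fun {a} ha => by
    rw [← one_mul a⁻¹, ← pow_orderOf_eq_one a, ← Nat.succ_pred_eq_of_pos (orderOf_pos a), pow_succ,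
      mul_inv_cancel_right]
    exact M.pow_mem ha _⟩
  have : K = ⊤ := hH.2 K (lt_of_le_of_ne (fun h hh => h1 h hh) fun e => hc (e ▸ h2))
  exact (this ▸ mem_top g : g ∈ K)

theorem odd_fixed {α : Type*} [Finite α] {f : α → α} (hf : ∀ a, f (f a) = a) :
    Nat.card α ≡ Nat.card {a // f a = a} [MOD 2] := by
  classical
  have := Fintype.ofFinite α
  have : Fact (Nat.Prime 2) := ⟨Nat.prime_two⟩
  have := Equiv.Perm.card_fixedPoints_modEq (f := (f : Function.End α)) (p := 2) (n := 1)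
    (funext hf)
  rwa [← Nat.card_eq_fintype_card, ← Nat.card_eq_fintype_card] at this

variable [FaithfulSMul G Ω] {A : Subgroup G} (hA : IsCyclic A)
  (htr : ∀ x y : Ω, ∃ a ∈ A, a • x = y)
include hA htr

theorem reg_eq {a b : G} (ha : a ∈ A) (hb : b ∈ A) {x : Ω} (h : a • x = b • x) : a = b :=
  eq_of_smul_eq_smul fun y : Ω => by
    obtain ⟨c, hc, rfl⟩ := htr x y
    rw [← mul_smul, cyc_comm hA ha hc, mul_smul, h, ← mul_smul, cyc_comm hA hc hb, mul_smul]

theorem schur {o : Ω} (hm : IsCoatom (stabilizer G o)) {u : G} (hu : u ∈ A) (uu : u * u = 1)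
    (u1 : u ≠ 1) {x : Ω} (hx : x ≠ o) : ∃ h : G, h • o = o ∧ h • x = u • o := by
  by_contra hn
  let T : Set Ω := {y | ∃ h : G, h • o = o ∧ h • x = y}
  have hT : ∀ h ∈ stabilizer G o, ∀ y ∈ T, h • y ∈ T := by
    rintro h hh _ ⟨k, hk, rfl⟩
    exact ⟨h * k, by rw [mul_smul, hk, hh], mul_smul _ _ _⟩
  have ho : o ∉ T := fun ⟨h, h1, h2⟩ => hx (smul_left_cancel h (h2.trans h1.symm))
  have r1 : ∀ a ∈ A, a • o = o → a = 1 := fun a ha e =>
    reg_eq hA htr ha (one_mem _) (e.trans (one_smul _ _).symm)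
  have ex : ∀ h a : G, ∃ b ∈ A, (b⁻¹ * (h * a)) • o = o := fun h a => by
    obtain ⟨b, hb, e⟩ := htr o ((h * a) • o)
    exact ⟨b, hb, by rw [mul_smul, ← e, inv_smul_smul]⟩
  suffices ∀ w ∈ T, u • w ∈ T by
    obtain ⟨a, -, e⟩ := htr x o
    exact ho (e ▸ blk hm hT (fun e => u1 (r1 u hu e)) this a x ⟨1, one_smul _ _, one_smul _ _⟩)
  intro w hw
  by_contra hw'
  obtain ⟨a, ha, rfl⟩ := htr o w
  let S : Ω → Type _ := fun y => {b : A // (b : G) • o ∈ T ∧ (b : G)⁻¹ • y ∈ T}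
  let σ : ∀ c ∈ A, S (c • o) → S (c • o) := fun c hc b =>
    ⟨⟨(b.1 : G)⁻¹ * c, mul_mem (inv_mem b.1.2) hc⟩, by rw [mul_smul]; exact b.2.2, by
      rw [← mul_smul, _root_.mul_inv_rev, inv_inv, mul_assoc, cyc_comm hA b.1.2 hc,
        inv_mul_cancel_left]; exact b.2.1⟩
  have hσ : ∀ c hc b, σ c hc (σ c hc b) = b := fun c hc b => Subtype.ext (Subtype.ext (by
    show ((b.1 : G)⁻¹ * c)⁻¹ * c = b.1
    rw [_root_.mul_inv_rev, inv_inv, mul_assoc, cyc_comm hA b.1.2 hc, inv_mul_cancel_left]))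
  have hσ' : ∀ c hc b, σ c hc b = b ↔ (b.1 : G) * b.1 = c := fun c hc b => by
    rw [Subtype.ext_iff, Subtype.ext_iff]
    exact inv_mul_eq_iff_eq_mul.trans eq_comm
  have hS : ∀ h ∈ stabilizer G o, ∀ y, Nat.card (S y) ≤ Nat.card (S (h • y)) := fun h hh y => by
    choose f hf hf' using ex h
    have e1 : ∀ b : G, f b • o = h • b • o := fun b => by
      have := hf' b
      rw [mul_smul, inv_smul_eq_iff, mul_smul] at this
      exact this.symm
    refine Nat.card_le_card_of_injective (fun b : S y => (⟨⟨f b.1, hf _⟩, by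
      rw [e1]; exact hT h hh _ b.2.1, by
      have := hT _ (hf' b.1) _ b.2.2
      rwa [← mul_smul, mul_assoc, mul_inv_cancel_right, mul_smul] at this⟩ : S (h • y)))
      fun b b' e => Subtype.ext (Subtype.ext (reg_eq hA htr b.1.2 b'.1.2 (x := o)
        (smul_left_cancel h ?_)))
    rw [← e1, ← e1, show f b.1 = f b'.1 from congrArg (fun z : S (h • y) => (z.1 : G)) e]
  have h1 : Nat.card (S ((a * a) • o)) ≡ 1 [MOD 2] := by
    refine (odd_fixed (hσ _ (mul_mem ha ha))).trans ?_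
    refine congrArg (· % 2) (Nat.card_eq_one_iff_exists.mpr ⟨⟨⟨⟨a, ha⟩, hw, by
      rwa [mul_smul, inv_smul_smul]⟩, (hσ' _ (mul_mem ha ha) _).mpr rfl⟩,
      fun b => Subtype.ext (Subtype.ext (Subtype.ext ?_))⟩)
    by_contra e
    have e1 := (hσ' _ (mul_mem ha ha) _).mp b.2
    have e2 := cyc_inv hA (mul_mem b.1.1.2 (inv_mem ha)) hu (by
      rw [mul_assoc, ← mul_assoc a⁻¹, cyc_comm hA (inv_mem ha) b.1.1.2, mul_assoc, ← mul_assoc, e1]
      group) uu (fun e' => e (mul_inv_eq_one.mp e')) u1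
    exact hw' (by rw [← mul_smul, ← e2, inv_mul_cancel_right]; exact b.1.2.1)
  let W : Set Ω := {y | ∀ h ∈ stabilizer G o, ∃ b ∈ A, h • y = (b * b) • o}
  have hW : (a * a) • o ∈ W := fun h hh => by
    obtain ⟨c, hc, e⟩ := htr o (h • (a * a) • o)
    have h2 := (hS h hh ((a * a) • o)).antisymm (by
      simpa using hS h⁻¹ (inv_mem hh) (h • (a * a) • o))
    rw [h2, ← e] at h1
    have h3 := (odd_fixed (hσ c hc)).symm.trans h1
    obtain ⟨b⟩ : Nonempty {b // σ c hc b = b} := by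
      by_contra e'
      rw [not_nonempty_iff] at e'
      simp [Nat.ModEq] at h3
    exact ⟨_, b.1.1.2, by rw [(hσ' c hc b.1).mp b.2, e]⟩
  have h2 := blk hm (W := W) (fun h hh y hy k hk => by rw [← mul_smul]; exact hy _ (mul_mem hk hh))
    (c := a * a) (fun e => hw' ?_) (fun y hy h hh => ?_)
  · have h3 : Function.Surjective fun b : A => b * b := fun c => by
      obtain ⟨b, hb, e⟩ := h2 (c * (a * a)⁻¹) _ hW 1 (one_mem _)
      rw [one_smul, ← mul_smul, inv_mul_cancel_right] at e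
      exact ⟨⟨b, hb⟩, Subtype.ext (reg_eq hA htr c.2 (mul_mem hb hb) e).symm⟩
    exact u1 (congrArg Subtype.val (Finite.injective_iff_surjective.mpr h3
      (a₁ := ⟨u, hu⟩) (a₂ := 1) (Subtype.ext (uu.trans (mul_one 1).symm))))
  · exact absurd (cyc_inv hA ha hu (r1 _ (mul_mem ha ha) e) uu
      (fun e => ho (by simpa [e] using hw)) u1 ▸ hw) hn
  · obtain ⟨b, hb, e⟩ := hW h hh
    obtain ⟨c, hc, e'⟩ := hy ((b * b)⁻¹ * (h * (a * a))) (by
      rw [mem_stabilizer_iff, mul_smul, mul_smul h, e, inv_smul_smul])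
    refine ⟨b * c, mul_mem hb hc, ?_⟩
    rw [mul_smul, inv_smul_eq_iff, mul_smul, ← mul_smul (b * b)] at e'
    rw [e', mul_assoc b b, ← mul_assoc b c, cyc_comm hA hb hc, ← cyc_comm hA hb hc]
    nth_rw 1 [cyc_comm hA hb hc]
    simp only [mul_assoc]

theorem schur2 {o : Ω} (hm : IsCoatom (stabilizer G o)) {u : G} (hu : u ∈ A) (uu : u * u = 1)
    (u1 : u ≠ 1) {a b c d : Ω} (h1 : a ≠ b) (h2 : c ≠ d) : ∃ g : G, g • a = c ∧ g • b = d := by
  have key : ∀ {a b : Ω}, a ≠ b → ∃ g : G, g • a = o ∧ g • b = u • o := fun {a b} h => by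
    obtain ⟨x, -, e⟩ := htr a o
    obtain ⟨h, e1, e2⟩ := schur hA htr hm hu uu u1 (x := x • b) fun e' =>
      h (smul_left_cancel x (e.trans e'.symm))
    exact ⟨h * x, by rw [mul_smul, e, e1], by rw [mul_smul, e2]⟩
  obtain ⟨g, e1, e2⟩ := key h1
  obtain ⟨k, e3, e4⟩ := key h2
  exact ⟨k⁻¹ * g, by rw [mul_smul, e1, ← e3, inv_smul_smul], by
    rw [mul_smul, e2, ← e4, inv_smul_smul]⟩

end CZ
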