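import Cfsg.Agent.CZ.Fix

/-! When involutions have two fixed points the group is sharply triply transitive. -/

set_option autoImplicit false
set_option linter.unusedSectionVars false
set_option linter.unusedVariables false

namespace CZ

open Cfsg Subgroup FT H4 MulAction BS
open H5 (IsSylowOf)

variable {G Ω : Type*} [Group G] [Finite G] [MulAction G Ω]

structure TF (Ω : Type*) [MulAction G Ω] (u : G) : Prop extends TZ Ω u where
  f2 : ∀ {t : G} {a b c : Ω}, a ≠ b → t * t = 1 → t ≠ 1 → t ∈ D G a b → t • c = c → c = a ∨ c = b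

theorem Q_fix {a : Ω} {q : G} (hq : q ∈ Qs G a) : q • a = a := commutator_le_self _ hq

theorem Q_conj {a : Ω} {q g : G} (hq : q ∈ Qs G a) (hg : g • a = a) : g * q * g⁻¹ ∈ Qs G a :=
  (mem_normalizer_iff.mp (le_normalizer_commutator le_normalizer le_normalizer
    (show g ∈ stabilizer G a from hg)) q).mp hq

theorem smul_ne {a b : Ω} {g : G} (hg : g • a = a) (hb : b ≠ a) : g • b ≠ a := fun e =>
  hb (smul_left_cancel g (e.trans hg.symm))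

namespace TF
variable [FaithfulSMul G Ω] [Finite Ω] {u s s' t t' x y g q z : G} (h : TF Ω u) {a b c d : Ω}
include h

theorem Q_odd (hq : q ∈ Qs G a) (e : q * q = 1) : q = 1 := by
  obtain ⟨b, hb, e'⟩ := h.fix2 e (Q_fix hq)
  exact h.semireg hq hb.symm e'

theorem Q_tr (hb : b ≠ a) (hc : c ≠ a) : ∃ q ∈ Qs G a, q • b = c := by
  obtain ⟨t, tt, t1, ht⟩ := h.exD hb.symm
  obtain ⟨g, g1, rfl⟩ := h.tr2 hb.symm hc.symm
  have h1 : g * t * g⁻¹ * t ∈ Qs G a := by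
    have := commutator_mem_commutator (show g ∈ stabilizer G a from g1)
      (show t ∈ stabilizer G a from ht.1)
    rwa [commutatorElement_def, inv_eq_of_mul_eq_one_left tt] at this
  obtain ⟨k, e⟩ := L.exists_conj_of_Reg (conj_inv (g := g) tt) tt (by
    by_contra e
    obtain ⟨z, hz, e'⟩ := L.exists_involution_mem_zpowers e
    rw [h.Q_odd (zpowers_le.mpr h1 hz) (L.mul_self_of_orderOf e')] at e'
    simp at e')
  refine ⟨_, zpow_mem h1 k, (h.f2 hc.symm (conj_inv (g := g) tt) (conj_ne t1)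
    ⟨by simpa only [g1] using conj_fix (g := g) ht.1, conj_fix ht.2⟩
    (by simpa only [e] using conj_fix (g := (g * t * g⁻¹ * t) ^ k) ht.2)).resolve_left ?_⟩
  exact smul_ne (Q_fix (zpow_mem h1 k)) hb

theorem Q_comm (hq : q ∈ Qs G a) (hz : z ∈ Qs G a) : q * z = z * q := cyc_comm (h.cycQ a) hq hz

theorem Q_inv (hb : a ≠ b) (tt : t * t = 1) (t1 : t ≠ 1) (ht : t ∈ D G a b) (hq : q ∈ Qs G a) :
    t * q * (t * q) = 1 := by
  have h1 : t * q * t ∈ Qs G a := by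
    simpa only [inv_eq_of_mul_eq_one_left tt] using Q_conj hq ht.1
  rw [← mul_assoc]
  refine h.semireg (mul_mem h1 hq) hb.symm ((h.f2 hb tt t1 ht (comm_fix ?_ ht.2)).resolve_left
    (smul_ne (Q_fix (mul_mem h1 hq)) hb.symm))
  conv_lhs => rw [h.Q_comm h1 hq]
  simp only [← mul_assoc, tt, one_mul]
  simp only [mul_assoc, tt, mul_one]

theorem exSw' (hb : a ≠ b) (h1 : c ≠ a) (h2 : c ≠ b) : ∃ s : G, Sw s a b ∧ s • c = c := by
  obtain ⟨t, tt, t1, ht⟩ := h.exD h1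
  obtain ⟨q, hq, e⟩ := h.Q_tr h2.symm h1.symm
  have : Sw (t * q) b a := ⟨h.Q_inv h1 tt t1 ht hq, by rw [mul_smul, e, ht.2]⟩
  exact ⟨_, ⟨this.ss, this.ba⟩, by rw [mul_smul, Q_fix hq, ht.1]⟩

theorem Sw_fix (hb : a ≠ b) (hs : Sw s a b) (hc : s • c = c) (hd : s • d = d) (tt : t * t = 1)
    (t1 : t ≠ 1) (ht : t ∈ D G a b) : d = c ∨ d = t • c := by
  refine h.f2 (fun e => ?_) hs.ss (fun e => hb (by rw [← hs.ab, e, one_smul]))
    ⟨hc, comm_fix (h.Sw_comm hs hb tt t1 ht).symm hc⟩ hd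
  rcases h.f2 hb tt t1 ht e.symm with rfl | rfl
  · exact hb (hc.symm.trans hs.ab)
  · exact hb (hs.ba.symm.trans hc)

theorem D_tr (hb : a ≠ b) (h1 : c ≠ a) (h2 : c ≠ b) (h3 : d ≠ a) (h4 : d ≠ b) :
    ∃ y ∈ D G a b, y • c = d := by
  obtain ⟨t, tt, t1, ht⟩ := h.exD hb
  obtain ⟨s, hs, e⟩ := h.exSw' hb h1 h2
  obtain ⟨s', hs', e'⟩ := h.exSw' hb h3 h4
  obtain ⟨x, hx, -, rfl⟩ := h.K1 hb hs hs' (iff_of_true ⟨_, e⟩ ⟨_, e'⟩)
  rcases h.Sw_fix hb hs' e' (conj_fix e) tt t1 ht with e1 | e1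
  · exact ⟨x, hx, e1⟩
  · exact ⟨t * x, mul_mem ht hx, by rw [mul_smul, e1, ← mul_smul, tt, one_smul]⟩

theorem D_free (hb : a ≠ b) (h1 : c ≠ a) (h2 : c ≠ b) (hy : y ∈ D G a b) (e : y • c = c) :
    y = 1 := eq_of_smul_eq_smul fun d : Ω => by
  rw [one_smul]
  by_cases h3 : d = a
  · exact h3 ▸ hy.1
  by_cases h4 : d = b
  · exact h4 ▸ hy.2
  obtain ⟨z, hz, rfl⟩ := h.D_tr hb h1 h2 h3 h4
  exact comm_fix (cyc_comm (h.cycD hb) hz hy) e

theorem exQD (hb : b ≠ a) (hg : g • a = a) : ∃ q ∈ Qs G a, q⁻¹ * g ∈ D G a b := by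
  obtain ⟨q, hq, e⟩ := h.Q_tr hb (smul_ne hg hb)
  exact ⟨q, hq, by rw [mul_smul, hg, Q_fix (inv_mem hq)], by rw [mul_smul, ← e, inv_smul_smul]⟩

theorem cenQ (hz : z ∈ Qs G a) (z1 : z ≠ 1) (e : g * z = z * g) : g ∈ Qs G a := by
  have h1 : g • a = a := by_contra fun e' => z1 (h.semireg hz e' (comm_fix e (Q_fix hz)))
  obtain ⟨q, hq, h2⟩ := h.exQD (h.fpf a) h1
  have := h.D_free (h.fpf a).symm (smul_ne (Q_fix hz) (h.fpf a))
    (fun e => z1 (h.semireg hz (h.fpf a) e)) h2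
    (comm_fix ((Commute.inv_left (h.Q_comm hq hz)).mul_left e).symm.eq h2.2)
  exact inv_mul_eq_one.mp this ▸ hq

theorem Q_cls (hb : b ≠ a) (hq : q ∈ Qs G a) (q1 : q ≠ 1) (hz : z ∈ Qs G a) (z1 : z ≠ 1) :
    ∃ y ∈ D G a b, y * q * y⁻¹ = z := by
  obtain ⟨y, hy, e⟩ := h.D_tr hb.symm (smul_ne (Q_fix hq) hb) (fun e => q1 (h.semireg hq hb e))
    (smul_ne (Q_fix hz) hb) (fun e => z1 (h.semireg hz hb e))
  refine ⟨y, hy, (inv_mul_eq_one.mp (h.semireg (mul_mem (inv_mem hz) (Q_conj hq hy.1)) hb ?_)).symm⟩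
  rw [mul_smul, inv_smul_eq_iff, ← e, ← conj_move (g := y) rfl, hy.2]

theorem exQ (a : Ω) : ∃ q p, zpowers q = Qs G a ∧ q ≠ 1 ∧ p.Prime ∧ orderOf q = p := by
  obtain ⟨q, hq, e⟩ := H9.exists_zpowers_eq (h.cycQ a)
  obtain ⟨t, tt, t1, ht⟩ := h.exD (h.fpf a).symm
  have q1 : q ≠ 1 := fun e' => t1 (eq_of_smul_eq_smul fun c : Ω => by
    rw [one_smul]
    by_cases hc : c = a
    · exact hc ▸ ht.1
    obtain ⟨z, hz, rfl⟩ := h.Q_tr (h.fpf a) hc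
    rw [← e, e', zpowers_one_eq_bot, mem_bot] at hz
    rw [hz, one_smul, ht.2])
  obtain ⟨z, hz, hp⟩ := IT.exists_prime_pow q1
  obtain ⟨y, -, rfl⟩ := h.Q_cls (h.fpf a) hq q1 (e ▸ hz) (IT.ne_one_of_orderOf hp rfl)
  exact ⟨q, _, e, q1, hp, ((MulAut.conj y).orderOf_eq q).symm⟩

theorem D_inv (hb : a ≠ b) (hs : Sw s a b) (hc : s • c = c) (hy : y ∈ D G a b) :
    s * y * s = y⁻¹ := by
  obtain ⟨t, tt, t1, ht⟩ := h.exD hb
  obtain ⟨x, hx, e1, e2⟩ := h.K2 hb hs hy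
  have h1 : c ≠ a := fun e => hb (e ▸ hc.symm.trans (e ▸ hs.ab))
  have h2 : c ≠ b := fun e => hb (hs.ba.symm.trans (e ▸ hc))
  have hw := mul_mem (inv_mem hx) hy
  rcases h.Sw_fix hb hs hc (comm_fix e2.symm hc) tt t1 ht with e | e
  · rwa [← inv_mul_eq_one.mp (h.D_free hb h1 h2 hw e)]
  · have := h.D_free hb h1 h2 (mul_mem (inv_mem ht) hw) (by rw [mul_smul, e, inv_smul_smul])
    rw [← eq_inv_mul_iff_mul_eq.mp (inv_mul_eq_one.mp this), ← mul_assoc, mul_assoc _ t,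
      ← h.Sw_comm hs hb tt t1 ht, ← mul_assoc, e1, _root_.mul_inv_rev,
      inv_eq_of_mul_eq_one_left tt, cyc_comm (h.cycD hb) ht (inv_mem hx)]

theorem sylow {p : ℕ} (hp : p.Prime) (e : zpowers q = Qs G a) (q1 : q ≠ 1) (ho : orderOf q = p) :
    IsSylowOf p (Qs G a) ⊤ := by
  have : Fact p.Prime := ⟨hp⟩
  refine H5.isSylowOf_of_maximal le_top (e ▸ isPGroup_zpowers_of_orderOf ho) fun P hP h1 _ => ?_
  have hq : q ∈ Qs G a := e ▸ mem_zpowers q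
  obtain ⟨z, hz, h2, h3⟩ := IT.exists_cen hp hP fun e => q1 (mem_bot.mp (e ▸ h1 hq))
  exact fun g hg => h.cenQ (h.cenQ hq q1 (c1_iff.mp (h3 (h1 hq))).symm)
    (IT.ne_one_of_orderOf hp h2) (c1_iff.mp (h3 hg))

section Normal
variable {N : Subgroup G} (hN : N.Normal) (h0 : N ≠ ⊥)
include hN h0

theorem N_tr (hb : a ≠ b) : ∃ x ∈ N, x • a = b := by
  obtain ⟨x, hx, x1⟩ := N.bot_or_exists_ne_one.resolve_left h0
  obtain ⟨c, hc⟩ : ∃ c : Ω, c ≠ x • c := by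
    by_contra! e
    exact x1 (eq_of_smul_eq_smul fun c : Ω => (e c).symm.trans (one_smul _ _).symm)
  obtain ⟨g, rfl, rfl⟩ := h.tr2 hc hb
  exact ⟨_, hN.conj_mem x hx g, conj_move rfl⟩

theorem Q_le (hs : ¬ Group.IsSolvable N) (a : Ω) : Qs G a ≤ N := by
  obtain ⟨x, hx, x1, c, hc⟩ : ∃ x ∈ N, x ≠ 1 ∧ Fx Ω x := by
    by_contra! hn
    have h1 : ∀ x ∈ N, x * x = 1 := fun x hx => by
      by_cases x1 : x = 1
      · simp [x1]
      have h2 : a ≠ x • a := fun e => hn x hx x1 ⟨a, e.symm⟩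
      obtain ⟨t, tt, t1, ht⟩ := h.exD h2
      have h3 : t * x = x * t := by_contra fun e => hn _ (mul_mem (inv_mem hx)
        (hN.conj_mem x hx t)) (fun e' => e (mul_inv_eq_iff_eq_mul.mp (inv_mul_eq_one.mp e').symm))
        ⟨a, by rw [mul_smul, inv_smul_eq_iff, ← ht.2, ← conj_move (g := t) rfl, ht.1]⟩
      refine by_contra fun e => hn _ (mul_mem hx hx) e ⟨a, ?_⟩
      rw [mul_smul]
      exact (h.f2 h2 tt t1 ht (comm_fix h3.symm ht.2)).resolve_right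
        fun e => h2 (smul_left_cancel x e).symm
    refine hs (H5.isSolvable_of_isMulCommutative ⟨⟨fun x y => Subtype.ext ?_⟩⟩)
    have := h1 _ (mul_mem x.2 y.2)
    rw [mul_eq_one_iff_eq_inv, _root_.mul_inv_rev, inv_eq_of_mul_eq_one_left (h1 _ x.2),
      inv_eq_of_mul_eq_one_left (h1 _ y.2)] at this
    exact this
  obtain ⟨g, rfl, -⟩ := h.tr2 (h.fpf c).symm (h.fpf a).symm
  obtain ⟨q, p, e, q1, -⟩ := h.exQ (g • c)
  have hq : q ∈ Qs G (g • c) := e ▸ mem_zpowers q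
  obtain ⟨z, hz, hz', z1⟩ : ∃ z ∈ N, z ∈ Qs G (g • c) ∧ z ≠ 1 := by
    by_cases e' : g * x * g⁻¹ * q = q * (g * x * g⁻¹)
    · exact ⟨_, hN.conj_mem x hx g, h.cenQ hq q1 e', conj_ne x1⟩
    refine ⟨g * x * g⁻¹ * q * (g * x * g⁻¹)⁻¹ * q⁻¹, ?_, mul_mem (Q_conj hq (conj_fix hc)) (inv_mem hq),
      fun e'' => e' (commutatorElement_eq_one_iff_mul_comm.mp e'')⟩
    rw [mul_assoc, mul_assoc, ← mul_assoc q]
    exact mul_mem (hN.conj_mem x hx g) (hN.conj_mem _ (inv_mem (hN.conj_mem x hx g)) q)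
  obtain ⟨y, -, e'⟩ := h.Q_cls (h.fpf _) hz' z1 hq q1
  exact e ▸ zpowers_le.mpr (e' ▸ hN.conj_mem z hz y)

theorem idx (hs : ¬ Group.IsSolvable N) (a : Ω) : N.index ∣ 2 := by
  have hb := (h.fpf a).symm
  have h1 : ∀ g : G, ∃ n ∈ N, n⁻¹ * g ∈ D G a (u • a) := fun g => by
    obtain ⟨x, hx, e⟩ : ∃ x ∈ N, x • a = g • a := by
      by_cases e : a = g • a
      · exact ⟨1, one_mem _, (one_smul _ _).trans e⟩
      · exact h.N_tr hN h0 e
    obtain ⟨q, hq, e'⟩ := h.exQD (g := x⁻¹ * g) hb.symm (by rw [mul_smul, ← e, inv_smul_smul])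
    exact ⟨x * q, mul_mem hx (h.Q_le hN h0 hs a hq), by rwa [_root_.mul_inv_rev, mul_assoc]⟩
  obtain ⟨y, hy, e⟩ := H9.exists_zpowers_eq (h.cycD hb)
  obtain ⟨q, p, e1, q1, -⟩ := h.exQ a
  have hq : q ∈ Qs G a := e1 ▸ mem_zpowers q
  obtain ⟨s, hs, e2⟩ := h.exSw' hb (smul_ne (Q_fix hq) hb.symm)
    fun e => q1 (h.semireg hq hb.symm e)
  have h2 : y ^ 2 ∈ N := by
    obtain ⟨n, hn, e3⟩ := h1 s
    have e4 := h.D_inv hb hs e2 (inv_mem hy)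
    have e5 := congrArg (· * s) (cyc_comm (h.cycD hb) e3 (inv_mem hy))
    simp only [mul_assoc n⁻¹, e4, mul_assoc y⁻¹, hs.ss, mul_one, inv_inv] at e5
    have := mul_mem hn (hN.conj_mem _ (inv_mem hn) y⁻¹)
    rwa [← e5, inv_inv, ← mul_assoc, mul_inv_cancel_left, ← sq] at this
  refine index_dvd_two_iff.mpr ⟨y, fun g => ?_⟩
  obtain ⟨n, hn, k, e3⟩ : ∃ n ∈ N, n⁻¹ * g ∈ zpowers y := e ▸ h1 g
  obtain rfl : g = n * y ^ k := eq_comm.mp (eq_inv_mul_iff_mul_eq.mp e3)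
  have h3 : ∀ j : ℤ, y ^ (2 * j) ∈ N := fun j => by rw [zpow_mul]; exact zpow_mem (mod_cast h2) j
  obtain ⟨j, rfl | rfl⟩ := Int.even_or_odd' k
  · exact .inr (mul_mem hn (h3 j))
  · exact .inl (by rw [mul_assoc, ← zpow_add_one, add_assoc]; exact mul_mem hn (by
      simpa [mul_add] using h3 (j + 1)))

end Normal
end TF
end CZ
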