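import Cfsg.Agent.CZ.Schur

/-! Doubly transitive groups of even degree whose point stabilizers have cyclic Sylow subgroups:
involutions. -/

set_option autoImplicit false
set_option linter.unusedSectionVars false
set_option linter.unusedVariables false

namespace CZ

open Cfsg Subgroup FT H4 MulAction

variable {G Ω : Type*} [Group G] [Finite G] [MulAction G Ω]

/-- two-point stabilizer -/
def D (G : Type*) [Group G] [MulAction G Ω] (a b : Ω) : Subgroup G where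
  carrier := {g | g • a = a ∧ g • b = b}
  mul_mem' hx hy := ⟨by rw [mul_smul, hy.1, hx.1], by rw [mul_smul, hy.2, hx.2]⟩
  one_mem' := ⟨one_smul _ _, one_smul _ _⟩
  inv_mem' hx := ⟨inv_smul_eq_iff.mpr hx.1.symm, inv_smul_eq_iff.mpr hx.2.symm⟩

theorem mem_D {a b : Ω} {g : G} : g ∈ D G a b ↔ g • a = a ∧ g • b = b := Iff.rfl

/-- derived group of the point stabilizer -/
abbrev Qs (G : Type*) [Group G] [MulAction G Ω] (a : Ω) : Subgroup G :=
  ⁅stabilizer G a, stabilizer G a⁆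

theorem conj_mem_zpowers {C : Subgroup G} (hC : IsCyclic C) {x g : G} (hx : x ∈ C)
    (hg : ∀ y ∈ C, g * y * g⁻¹ ∈ C) : g * x * g⁻¹ ∈ zpowers x := by
  obtain ⟨c, hc, rfl⟩ := H9.exists_zpowers_eq hC
  obtain ⟨j, rfl⟩ := hx
  obtain ⟨k, e⟩ := hg c hc
  exact ⟨k, by simp only [← conj_zpow, ← e, ← zpow_mul, mul_comm]⟩

theorem conj_fix {g x : G} {a : Ω} (h : x • a = a) : (g * x * g⁻¹) • g • a = g • a := by
  rw [mul_smul, inv_smul_smul, mul_smul, h]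

theorem conj_move {g x : G} {a b : Ω} (h : x • a = b) : (g * x * g⁻¹) • g • a = g • b := by
  rw [mul_smul, inv_smul_smul, mul_smul, h]

theorem conj_inv {g x : G} (h : x * x = 1) : g * x * g⁻¹ * (g * x * g⁻¹) = 1 := by
  rw [conj_mul, h, mul_one, mul_inv_cancel]

theorem conj_ne {g x : G} (h : x ≠ 1) : g * x * g⁻¹ ≠ 1 := fun e => h (conj_eq_one_iff.mp e)

theorem comm_fix {g t : G} (h : g * t = t * g) {a : Ω} (ha : t • a = a) : t • g • a = g • a := by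
  rw [← mul_smul, ← h, mul_smul, ha]

/-- has a fixed point -/
def Fx (Ω : Type*) [MulAction G Ω] (g : G) : Prop := ∃ c : Ω, g • c = c

theorem Fx.conj {x : G} (h : Fx Ω x) (g : G) : Fx Ω (g * x * g⁻¹) :=
  h.elim fun c hc => ⟨_, conj_fix hc⟩

theorem fx_conj {x g : G} : Fx Ω (g * x * g⁻¹) ↔ Fx Ω x :=
  ⟨fun h => by simpa [mul_assoc] using h.conj g⁻¹, fun h => h.conj g⟩

/-- an involution interchanging `a` and `b` -/
structure Sw (s : G) (a b : Ω) : Prop where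
  ss : s * s = 1
  ab : s • a = b

theorem Sw.ba {s : G} {a b : Ω} (h : Sw s a b) : s • b = a := by
  rw [← h.ab, ← mul_smul, h.ss, one_smul]

theorem Sw.inv {s : G} {a b : Ω} (h : Sw s a b) : s⁻¹ = s := inv_eq_of_mul_eq_one_left h.ss

theorem Sw.cancel {s : G} {a b : Ω} (h : Sw s a b) (g : G) : s * (s * g) = g := by
  rw [← mul_assoc, h.ss, one_mul]

theorem Sw.conj {s : G} {a b : Ω} (h : Sw s a b) (g : G) : Sw (g * s * g⁻¹) (g • a) (g • b) :=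
  ⟨conj_inv h.ss, conj_move h.ab⟩

theorem Sw.mul_mem {s s' : G} {a b : Ω} (h : Sw s a b) (h' : Sw s' a b) : s * s' ∈ D G a b :=
  ⟨by rw [mul_smul, h'.ab, h.ba], by rw [mul_smul, h'.ba, h.ab]⟩

theorem Sw.conj_mem {s y : G} {a b : Ω} (h : Sw s a b) (hy : y ∈ D G a b) : s * y * s ∈ D G a b :=
  ⟨by rw [mul_smul, h.ab, mul_smul, hy.2, h.ba], by rw [mul_smul, h.ba, mul_smul, hy.1, h.ab]⟩

structure TZ (Ω : Type*) [MulAction G Ω] (u : G) : Prop where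
  tr2 : ∀ {a b c d : Ω}, a ≠ b → c ≠ d → ∃ g : G, g • a = c ∧ g • b = d
  zg : ∀ a : Ω, IsZGroup (stabilizer G a)
  uu : u * u = 1
  fpf : ∀ a : Ω, u • a ≠ a
  ex : ∃ t : G, t * t = 1 ∧ t ≠ 1 ∧ Fx Ω t

namespace TZ
variable [FaithfulSMul G Ω] [Finite Ω] {u s s' t t' x y g : G} (h : TZ Ω u) {a b c : Ω}
include h

theorem cycQ (a : Ω) : IsCyclic (Qs G a) := by
  have := h.zg a
  rw [Qs, ← map_subtype_commutator]
  exact H9.isCyclic_map _ (IsZGroup.isCyclic_commutator _)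

theorem semireg (hx : x ∈ Qs G a) (hb : b ≠ a) (e : x • b = b) : x = 1 :=
  eq_of_smul_eq_smul fun c : Ω => by
    rw [one_smul]
    by_cases hc : c = a
    · exact hc ▸ commutator_le_self _ hx
    obtain ⟨g, e1, rfl⟩ := h.tr2 hb.symm (Ne.symm hc)
    have h1 := conj_mem_zpowers (g := g⁻¹) (h.cycQ a) hx fun y hy =>
      (mem_normalizer_iff.mp (le_normalizer_commutator le_normalizer le_normalizer
        (inv_mem (show g ∈ stabilizer G a from e1))) y).mp hy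
    have h2 : (g⁻¹ * x * g⁻¹⁻¹) • b = b :=
      (zpowers_le (H := stabilizer G b)).mpr e h1
    rwa [inv_inv, mul_smul, mul_smul, inv_smul_eq_iff] at h2

theorem cycD (hb : a ≠ b) : IsCyclic (D G a b) := by
  have := h.zg a
  refine isCyclic_of_injective (Abelianization.of.comp
    (inclusion (show D G a b ≤ stabilizer G a from fun _ h => h.1))) ((injective_iff_map_eq_one _).mpr
      fun x hx => Subtype.ext (h.semireg (a := a) ?_ hb.symm x.2.2))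
  rw [Qs, ← map_subtype_commutator]
  exact ⟨_, (QuotientGroup.eq_one_iff _).mp hx, rfl⟩

theorem uniq (hb : a ≠ b) (tt : t * t = 1) (t1 : t ≠ 1) (ht : t ∈ D G a b) (tt' : t' * t' = 1)
    (t1' : t' ≠ 1) (ht' : t' ∈ D G a b) : t = t' := cyc_inv (h.cycD hb) ht ht' tt tt' t1 t1'

theorem fix2 (tt : t * t = 1) (ha : t • a = a) : ∃ b, a ≠ b ∧ t • b = b := by
  have h1 := odd_fixed (f := fun c : Ω => u • c) fun c => by rw [← mul_smul, h.uu, one_smul]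
  have h2 := odd_fixed (f := fun c : Ω => t • c) fun c => by rw [← mul_smul, tt, one_smul]
  have : IsEmpty {c : Ω // u • c = c} := ⟨fun c => h.fpf _ c.2⟩
  by_contra! hn
  rw [(Nat.card_eq_one_iff_exists (α := {c : Ω // t • c = c})).mpr ⟨⟨a, ha⟩, fun c => Subtype.ext
    (by_contra fun e => hn c (Ne.symm e) c.2)⟩] at h2
  simpa [Nat.ModEq] using h1.symm.trans h2

theorem exD (hb : a ≠ b) : ∃ t : G, t * t = 1 ∧ t ≠ 1 ∧ t ∈ D G a b := by
  obtain ⟨t, tt, t1, c, hc⟩ := h.ex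
  obtain ⟨d, hd, e⟩ := h.fix2 tt hc
  obtain ⟨g, rfl, rfl⟩ := h.tr2 hd hb
  exact ⟨_, conj_inv tt, conj_ne t1, conj_fix hc, conj_fix e⟩

theorem comm_of (tt : t * t = 1) (t1 : t ≠ 1) (hb : a ≠ b) (ht : t ∈ D G a b)
    (h1 : t • g • a = g • a) (h2 : t • g • b = g • b) : g * t = t * g :=
  mul_inv_eq_iff_eq_mul.mp (h.uniq (a := g • a) (b := g • b) (fun e => hb (smul_left_cancel g e))
    (conj_inv tt) (conj_ne t1) ⟨conj_fix ht.1, conj_fix ht.2⟩ tt t1 ⟨h1, h2⟩)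

theorem Sw_comm (hs : Sw s a b) (hb : a ≠ b) (tt : t * t = 1) (t1 : t ≠ 1) (ht : t ∈ D G a b) :
    s * t = t * s := h.comm_of tt t1 hb ht (hs.ab ▸ hs.ab ▸ ht.2) (hs.ba ▸ hs.ba ▸ ht.1)

theorem exSw (hb : a ≠ b) (P : Prop) : ∃ s : G, Sw s a b ∧ (Fx Ω s ↔ P) := by
  by_cases hP : P
  · obtain ⟨t, tt, t1, ht⟩ := h.ex
    obtain ⟨c, hc⟩ : ∃ c : Ω, c ≠ t • c := by
      by_contra! e
      exact t1 (eq_of_smul_eq_smul fun c : Ω => (e c).symm.trans (one_smul _ _).symm)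
    obtain ⟨g, rfl, rfl⟩ := h.tr2 hc hb
    exact ⟨_, (Sw.mk tt rfl).conj g, iff_of_true (ht.conj g) hP⟩
  · obtain ⟨g, e, rfl⟩ := h.tr2 (h.fpf a).symm hb
    have := (Sw.mk h.uu rfl : Sw u a _).conj g
    exact ⟨_, e ▸ this, iff_of_false (fun ⟨c, hc⟩ => (fx_conj.mp ⟨c, hc⟩).elim h.fpf) hP⟩

theorem K1 (hb : a ≠ b) (hs : Sw s a b) (hs' : Sw s' a b) (e : Fx Ω s ↔ Fx Ω s') :
    ∃ x ∈ D G a b, s * x * s = x⁻¹ ∧ s' = x * s * x⁻¹ := by
  let I : Subgroup G := ⟨⟨⟨{x | x ∈ D G a b ∧ s * x * s = x⁻¹}, fun {x y} hx hy =>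
    ⟨mul_mem hx.1 hy.1, by
      rw [cyc_comm (h.cycD hb) hx.1 hy.1, _root_.mul_inv_rev, cyc_comm (h.cycD hb) (inv_mem hx.1)
        (inv_mem hy.1), ← hx.2, ← hy.2]
      simp only [mul_assoc, hs.cancel]⟩⟩, one_mem _, by simp [hs.ss]⟩, fun {x} hx => ⟨inv_mem hx.1, by
      rw [← hx.2, _root_.mul_inv_rev, _root_.mul_inv_rev, hs.inv, mul_assoc, ← hx.2]⟩⟩
  obtain ⟨x, hx, hI⟩ := H9.exists_zpowers_eq (cyclic_of_le (h.cycD hb) (fun _ hx => hx.1 : I ≤ _))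
  have h1 : ∀ {r : G}, Sw r a b → ∃ k : ℤ, r = s * x ^ k := fun {r} hr => by
    obtain ⟨k, e⟩ : s * r ∈ zpowers x := hI ▸ ⟨hs.mul_mem hr, by
      rw [← mul_assoc, hs.ss, one_mul, _root_.mul_inv_rev, hs.inv, hr.inv]⟩
    exact ⟨k, by simp only [e, ← mul_assoc, hs.ss, one_mul]⟩
  have h2 : ∀ j k : ℤ, s * x ^ (k + 2 * j) = x ^ (-j) * (s * x ^ k) * (x ^ (-j))⁻¹ := fun j k => by
    have := (I.zpow_mem hx j).2
    rw [zpow_neg, ← this, mul_assoc (s * x ^ j), ← mul_assoc s s, hs.ss, this]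
    group
  obtain ⟨r, hr, e'⟩ := h.exSw hb (¬ Fx Ω s)
  obtain ⟨k, rfl⟩ := h1 hs'
  obtain ⟨l, rfl⟩ := h1 hr
  obtain ⟨j, rfl | rfl⟩ := Int.even_or_odd' k
  · exact ⟨_, (I.zpow_mem hx (-j)).1, (I.zpow_mem hx (-j)).2, by simpa using h2 j 0⟩
  obtain ⟨i, rfl | rfl⟩ := Int.even_or_odd' l
  · rw [← zero_add (2 * i), h2, fx_conj, zpow_zero, mul_one] at e'
    tauto
  · rw [add_comm, h2, fx_conj] at e e'
    tauto

theorem K2 (hb : a ≠ b) (hs : Sw s a b) (hy : y ∈ D G a b) :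
    ∃ x ∈ D G a b, s * x * s = x⁻¹ ∧ s * (x⁻¹ * y) = x⁻¹ * y * s := by
  have h1 := hs.conj y
  rw [hy.1, hy.2] at h1
  obtain ⟨x, hx, e1, e2⟩ := h.K1 hb hs h1 fx_conj.symm
  exact ⟨x, hx, e1, by rw [mul_assoc, mul_inv_eq_iff_eq_mul.mp e2]; group⟩

end TZ
end CZ
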